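import Groth.Agent.Sga3.H8.FinDescQuot
import Groth.Agent.Sga3B.BcPts
import Groth.Agent.Pic13.H955.GroupAF
import Groth.Agent.Localalg.GrpSchComp2
import Groth.Agent.S0114

/-!
# Descent of the algebraic quotient `G/N` along a finite extension of fields
-/

set_option autoImplicit false
universe v u
open CategoryTheory MonoidalCategory CartesianMonoidalCategory MonObj GrpObj AlgebraicGeometry Limits

namespace Groth.Agent.Sga3.H8.Quot3b

open Groth.Agent.Sga3C.QuotProps Groth.Agent.Sga3.H8.FpqcQuot Groth.Agent.Sga3.H8.FinDescQuot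
  Groth.Agent.Sga3B.BcPts

section

variable {S S' : Scheme.{u}} (φ : S' ⟶ S) {G N : Over S} [GrpObj G]

/-- A morphism from the base change of `G` to `Q₀` as a morphism from `G × S'` to `Q₀` over `S`. -/
noncomputable def down {Q₀ : Over S'} (q₀ : Red.bc φ G ⟶ Q₀) :
    G ⊗ Over.mk φ ⟶ (Over.map φ).obj Q₀ :=
  Over.homMk q₀.left (by
    change q₀.left ≫ Q₀.hom ≫ φ = _
    rw [← Category.assoc, Over.w]
    exact (pullback.condition (f := G.hom) (g := φ)).symm)

omit [GrpObj G] in
theorem bcEquiv_left {T : Over S} (a : T ⟶ G) (e : T ⟶ Over.mk φ) :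
    (bcEquiv φ (Over.mk e.left) G ((overIso e).hom ≫ a)).left = (lift a e).left := by
  apply pullback.hom_ext
  · have h1 : (lift a e).left ≫ pullback.fst G.hom (Over.mk φ).hom = a.left := by
      change (lift a e).left ≫ (fst G (Over.mk φ)).left = _
      rw [← Over.comp_left, lift_fst]
    refine Eq.trans ?_ h1.symm
    simp [bcEquiv, Adjunction.homEquiv_unit, overIso]
    erw [pullback.lift_fst, pullback.lift_fst_assoc, pullback.lift_fst_assoc]
    exact Category.id_comp _
  · have h1 : (lift a e).left ≫ pullback.snd G.hom (Over.mk φ).hom = e.left := by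
      change (lift a e).left ≫ (snd G (Over.mk φ)).left = _
      rw [← Over.comp_left, lift_snd]
    refine Eq.trans ?_ h1.symm
    exact Over.w (bcEquiv φ (Over.mk e.left) G ((overIso e).hom ≫ a))

theorem isQ (n : N ⟶ G) {Q₀ : Over S'} (q₀ : Red.bc φ G ⟶ Q₀) [Flat q₀.left] [Surjective q₀.left]
    [QuasiCompact q₀.left] (h : KerRel ((Over.pullback φ).map n) q₀) :
    IsQ (Q' := (Over.map φ).obj Q₀) n (Over.homMk Q₀.hom : (Over.map φ).obj Q₀ ⟶ Over.mk φ)
      (down φ q₀) where
  w := by
    ext1
    exact Over.w q₀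
  flat := ‹Flat q₀.left›
  surj := ‹Surjective q₀.left›
  qc := ‹QuasiCompact q₀.left›
  ker := by
    intro T a b e
    have h1 : ∀ a : T ⟶ G, (lift a e ≫ down φ q₀).left =
        (bcEquiv φ (Over.mk e.left) G ((overIso e).hom ≫ a) ≫ q₀).left := by
      intro a
      rw [Over.comp_left, Over.comp_left, bcEquiv_left]
      rfl
    have h2 : lift a e ≫ down φ q₀ = lift b e ≫ down φ q₀ ↔
        bcEquiv φ (Over.mk e.left) G ((overIso e).hom ≫ a) ≫ q₀ =
          bcEquiv φ (Over.mk e.left) G ((overIso e).hom ≫ b) ≫ q₀ := by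
      constructor
      · intro hab
        ext1
        rw [← h1, ← h1, hab]
      · intro hab
        ext1
        rw [h1, h1, hab]
    rw [h2, h]
    have h3 : (bcEquiv φ (Over.mk e.left) G ((overIso e).hom ≫ a))⁻¹ *
        bcEquiv φ (Over.mk e.left) G ((overIso e).hom ≫ b) =
        bcEquiv φ (Over.mk e.left) G ((overIso e).hom ≫ (a⁻¹ * b)) := by
      have := (bcMulEquiv φ (Over.mk e.left) G).map_mul ((overIso e).hom ≫ a)⁻¹ ((overIso e).hom ≫ b)
      rw [comp_mul, comp_inv]
      exact ((this.trans (congrArg (· * _) ((bcMulEquiv φ (Over.mk e.left) G).map_inv _)))).symm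
    rw [h3]
    constructor
    · rintro ⟨c', hc'⟩
      obtain ⟨c₀, rfl⟩ := (bcEquiv φ (Over.mk e.left) N).surjective c'
      rw [← bcEquiv_comp] at hc'
      have h4 := (bcEquiv φ (Over.mk e.left) G).injective hc'
      refine ⟨(overIso e).inv ≫ c₀, ?_⟩
      rw [Category.assoc, ← h4, Iso.inv_hom_id_assoc]
    · rintro ⟨c, hc⟩
      refine ⟨bcEquiv φ (Over.mk e.left) N ((overIso e).hom ≫ c), ?_⟩
      rw [hc, ← bcEquiv_comp, Category.assoc]

end

variable {k k' : Type u} [Field k] [Field k'] [Algebra k k'] [Module.Finite k k']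

/-- The morphism `Spec k' ⟶ Spec k`. -/
noncomputable abbrev ext (k k' : Type u) [Field k] [Field k'] [Algebra k k'] :
    Spec (CommRingCat.of k') ⟶ Spec (CommRingCat.of k) :=
  Spec.map (CommRingCat.ofHom (algebraMap k k'))

omit [Module.Finite k k'] in
theorem surjective_ext : Surjective (ext k k') := by
  constructor
  intro x
  exact ⟨IsLocalRing.closedPoint k', Subsingleton.elim _ _⟩

theorem isFinLocFree_ext : Mor2.IsFinLocFree (ext k k') := by
  have h1 : IsFinite (ext k k') := by
    rw [IsFinite.SpecMap_iff]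
    exact RingHom.finite_algebraMap.2 inferInstance
  refine ⟨h1, inferInstance, ?_⟩
  have h2 : LocallyOfFiniteType (ext k k') := inferInstance
  infer_instance

/-- **(P3b)** Descent of the algebraic quotient of `G` by `N` along a finite extension of fields. -/
theorem exists_quot {G N : Over (Spec (CommRingCat.of k))} [GrpObj G] [GrpObj N] (n : N ⟶ G)
    [IsMonHom n] [Mono n] (hN : AlgGrp.IsNormalHom n) (Q₀ : Over (Spec (CommRingCat.of k')))
    [GrpObj Q₀] [LocallyOfFiniteType Q₀.hom] (q₀ : Red.bc (ext k k') G ⟶ Q₀) [Flat q₀.left]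
    [Surjective q₀.left] [QuasiCompact q₀.left] (h : KerRel ((Over.pullback (ext k k')).map n) q₀) :
    ∃ (Q : Over (Spec (CommRingCat.of k))) (_ : GrpObj Q) (q : G ⟶ Q), IsMonHom q ∧
      Surjective q.left ∧ Flat q.left ∧ QuasiCompact q.left ∧ LocallyOfFiniteType Q.hom ∧
      AlgGrp.IsKernel n q := by
  have h1 := isQ (ext k k') n q₀ h
  have h2 : Surjective (Over.mk (ext k k')).hom := surjective_ext
  obtain ⟨Q, q, p, hp1, hp2, hq1, hq2, hq3, hker, -⟩ := h1.exists_quotient isFinLocFree_ext
    (Pic13.H955.GroupAF.isAF k' Q₀)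
  obtain ⟨gQ, hmon⟩ := FpqcQuot.exists_grpObj n q hker hN
  have hl : LocallyOfFiniteType Q.hom := by
    have hp3 : Flat p.left := hp1.2.1
    have hp4 : LocallyOfFinitePresentation p.left := hp1.2.2
    have hk : LocallyOfFiniteType (ext k k') := by
      have := (isFinLocFree_ext (k := k) (k' := k')).1
      infer_instance
    have h3 : LocallyOfFiniteType (p.left ≫ Q.hom) := by
      rw [Over.w]
      exact inferInstanceAs (LocallyOfFiniteType (Q₀.hom ≫ ext k k'))
    have h4 : LocallyOfFinitePresentation (p.left ≫ Q.hom) := inferInstance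
    have := Groth.Agent.S0114.result p.left Q.hom
    infer_instance
  exact ⟨Q, gQ, q, hmon, hq2, hq1, hq3, hl, isKernel n q hker⟩

end Groth.Agent.Sga3.H8.Quot3b
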