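import Groth.Agent.Sga3.H8.Quot3a
import Groth.Agent.Sga3.H8.Quot3b

/-!
# The algebraic quotient `G/N` from a generically flat "mono modulo `N`" over a finite extension
-/

set_option autoImplicit false
universe v u
open CategoryTheory MonoidalCategory CartesianMonoidalCategory MonObj GrpObj AlgebraicGeometry Limits

namespace Groth.Agent.Sga3.H8.Quot3

open Groth.Agent.Sga3.H8.FpqcQuot Groth.Agent.Sga3.H8.MaxPt Groth.Agent.Sga3B.BcPts

/-- Normality is stable under base change. -/
theorem isNormalHom_bc {S S' : Scheme.{u}} (φ : S' ⟶ S) {G N : Over S} [GrpObj G] [GrpObj N]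
    (n : N ⟶ G) (hN : AlgGrp.IsNormalHom n) :
    AlgGrp.IsNormalHom (N := Red.bc φ N) (G := Red.bc φ G) ((Over.pullback φ).map n) := by
  intro T g c
  obtain ⟨g₀, rfl⟩ := (bcEquiv φ T G).surjective g
  obtain ⟨c₀, rfl⟩ := (bcEquiv φ T N).surjective c
  obtain ⟨c', hc'⟩ := hN _ g₀ c₀
  refine ⟨bcEquiv φ T N c', ?_⟩
  rw [← bcEquiv_comp, ← bcEquiv_comp, ← hc', bcEquiv_mul, bcEquiv_mul]
  congr 1
  exact ((bcMulEquiv φ T G).map_inv g₀).symm

variable {k k' : Type u} [Field k] [Field k'] [Algebra k k'] [Module.Finite k k']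

/-- **(P3)** `G` a quasi-compact group scheme over the field `k`, `N` a normal subgroup (monomorphism).
Suppose that over the finite extension `k'` there is a morphism `f : G_{k'} ⟶ Z` to a separated scheme of
finite type with `f a = f b` iff `a⁻¹ b ∈ N`, flat and surjective over an open `U` of `Z` containing the
images of all maximal points.  Then `G/N` is a group scheme locally of finite type over `k`. -/
theorem exists_quot {G N : Over (Spec (CommRingCat.of k))} [GrpObj G] [GrpObj N]
    [QuasiCompact G.hom] (n : N ⟶ G) [IsMonHom n] [Mono n] (hN : AlgGrp.IsNormalHom n)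
    (Z : Over (Spec (CommRingCat.of k'))) [IsSeparated Z.hom] [LocallyOfFiniteType Z.hom]
    [QuasiCompact Z.hom] (f : Red.bc (Quot3b.ext k k') G ⟶ Z)
    (hf : KerRel ((Over.pullback (Quot3b.ext k k')).map n) f)
    (U : Z.left.Opens) [Flat (f.left ∣_ U)] [Surjective (f.left ∣_ U)]
    (hU : ∀ x : (Red.bc (Quot3b.ext k k') G).left, IsMaxPt x → f.left x ∈ U) :
    ∃ (Q : Over (Spec (CommRingCat.of k))) (_ : GrpObj Q) (q : G ⟶ Q), IsMonHom q ∧
      Surjective q.left ∧ Flat q.left ∧ QuasiCompact q.left ∧ LocallyOfFiniteType Q.hom ∧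
      AlgGrp.IsKernel n q := by
  have hqc : QuasiCompact (Red.bc (Quot3b.ext k k') G).hom :=
    inferInstanceAs (QuasiCompact (pullback.snd G.hom (Quot3b.ext k k')))
  have hmono : Mono ((Over.pullback (Quot3b.ext k k')).map n) := inferInstance
  obtain ⟨Q, gQ, q, i, h1, h2, h3, h4, h5, h6, h7, h8, h9, h10⟩ := Quot3a.exists_quot
    (G := Red.bc (Quot3b.ext k k') G) (N := Red.bc (Quot3b.ext k k') N)
    ((Over.pullback (Quot3b.ext k k')).map n) (isNormalHom_bc _ n hN) f hf U hU
  have h11 : KerRel ((Over.pullback (Quot3b.ext k k')).map n) q :=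
    KerRel.of_comp_mono i (by rw [h10]; exact hf)
  exact Quot3b.exists_quot n hN Q q h11

end Groth.Agent.Sga3.H8.Quot3
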