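import Groth.Agent.Sga3C.QuotRel
import Groth.Agent.S4085
import Groth.Agent.S4086

/-!
# Quotients by finite locally free equivalence relations

The quotient of a scheme in which every finite set of points lies in an affine open by a finite locally
free equivalence relation, in terms of `QuotRel.IsERel`.
-/

set_option autoImplicit false
universe u
open CategoryTheory CategoryTheory.Limits AlgebraicGeometry

namespace Groth.Agent.Sga3.H8.FinQuot

open Groth.Agent.Sga3C.QuotRel

section

variable {S U R : Scheme.{u}} (pU : U ⟶ S) (t s : R ⟶ U) (h : IsERel t s) (hS : t ≫ pU = s ≫ pU)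

include h

theorem exists_unit : ∃ e : U ⟶ R, e ≫ t = 𝟙 _ ∧ e ≫ s = 𝟙 _ := h.refl (𝟙 U)

theorem exists_inv : ∃ i : R ⟶ R, i ≫ t = s ∧ i ≫ s = t :=
  h.symm ⟨𝟙 _, Category.id_comp _, Category.id_comp _⟩

theorem exists_comp : ∃ c : pullback s t ⟶ R, c ≫ t = pullback.fst _ _ ≫ t ∧
    c ≫ s = pullback.snd _ _ ≫ s := by
  have h1 : Rel t s (pullback.fst s t ≫ t) (pullback.fst s t ≫ s) := ⟨_, rfl, rfl⟩
  have h2 : Rel t s (pullback.snd s t ≫ t) (pullback.snd s t ≫ s) := ⟨_, rfl, rfl⟩
  rw [← pullback.condition] at h2
  exact h.trans h1 h2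

/-- The groupoid of an equivalence relation. -/
noncomputable def gpd : Grpd.GroupoidScheme S where
  U := U
  R := R
  pU := pU
  pR := s ≫ pU
  s := s
  t := t
  e := (exists_unit t s h).choose
  i := (exists_inv t s h).choose
  c := (exists_comp t s h).choose
  s_over := rfl
  t_over := hS
  comp_s := fun {T} α β hh => by
    rw [Category.assoc, (exists_comp t s h).choose_spec.2, pullback.lift_snd_assoc]
  comp_t := fun {T} α β hh => by
    rw [Category.assoc, (exists_comp t s h).choose_spec.1, pullback.lift_fst_assoc]
  assoc := fun {T} α β γ h₁ h₂ => by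
    apply h.mono
    · simp only [Category.assoc, (exists_comp t s h).choose_spec.1, pullback.lift_fst_assoc]
    · simp only [Category.assoc, (exists_comp t s h).choose_spec.2, pullback.lift_snd_assoc]
  e_s := (exists_unit t s h).choose_spec.2
  e_t := (exists_unit t s h).choose_spec.1
  comp_e := fun {T} α => by
    apply h.mono
    · rw [Category.assoc, (exists_comp t s h).choose_spec.1, pullback.lift_fst_assoc]
    · rw [Category.assoc, (exists_comp t s h).choose_spec.2, pullback.lift_snd_assoc,
        Category.assoc, Category.assoc, (exists_unit t s h).choose_spec.2, Category.comp_id]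
  e_comp := fun {T} α => by
    apply h.mono
    · rw [Category.assoc, (exists_comp t s h).choose_spec.1, pullback.lift_fst_assoc,
        Category.assoc, Category.assoc, (exists_unit t s h).choose_spec.1, Category.comp_id]
    · rw [Category.assoc, (exists_comp t s h).choose_spec.2, pullback.lift_snd_assoc]
  i_s := (exists_inv t s h).choose_spec.2
  i_t := (exists_inv t s h).choose_spec.1
  comp_i := fun {T} α => by
    apply h.mono
    · rw [Category.assoc, (exists_comp t s h).choose_spec.1, pullback.lift_fst_assoc,
        Category.assoc, Category.assoc, (exists_unit t s h).choose_spec.1, Category.comp_id]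
    · rw [Category.assoc, (exists_comp t s h).choose_spec.2, pullback.lift_snd_assoc,
        Category.assoc, Category.assoc, Category.assoc, (exists_unit t s h).choose_spec.2,
        (exists_inv t s h).choose_spec.2, Category.comp_id]
  i_comp := fun {T} α => by
    apply h.mono
    · rw [Category.assoc, (exists_comp t s h).choose_spec.1, pullback.lift_fst_assoc,
        Category.assoc, Category.assoc, Category.assoc, (exists_unit t s h).choose_spec.1,
        (exists_inv t s h).choose_spec.1, Category.comp_id]
    · rw [Category.assoc, (exists_comp t s h).choose_spec.2, pullback.lift_snd_assoc,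
        Category.assoc, Category.assoc, (exists_unit t s h).choose_spec.2, Category.comp_id]

theorem mono_j : Mono (gpd pU t s h hS).j := by
  refine ⟨fun {T} α β hαβ => ?_⟩
  apply h.mono
  · have := congrArg (fun k => k ≫ pullback.fst _ _) hαβ
    simp only [Category.assoc, Grpd.GroupoidScheme.j, pullback.lift_fst] at this
    exact this
  · have := congrArg (fun k => k ≫ pullback.snd _ _) hαβ
    simp only [Category.assoc, Grpd.GroupoidScheme.j, pullback.lift_snd] at this
    exact this

include hS in
/-- The quotient by a finite locally free equivalence relation. -/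
theorem exists_quotient (hs : Mor2.IsFinLocFree s)
    (hAF : ∀ F : Set U, F.Finite → ∃ V : U.Opens, IsAffineOpen V ∧ F ⊆ (V : Set U)) :
    ∃ (Y : Scheme.{u}) (p : U ⟶ Y) (pY : Y ⟶ S), Mor2.IsFinLocFree p ∧ Surjective p ∧ p ≫ pY = pU ∧
      ∀ {T : Scheme.{u}} (a b : T ⟶ U), a ≫ p = b ≫ p ↔ Rel t s a b := by
  have ha : Mor2.IsFinLocFree (gpd pU t s h hS).s := hs
  have hb : ∀ x : (gpd pU t s h hS).U, ∃ V : (gpd pU t s h hS).U.Opens, IsAffineOpen V ∧
      (gpd pU t s h hS).t.base '' ((gpd pU t s h hS).s.base ⁻¹' {x}) ⊆
        (V : Set (gpd pU t s h hS).U) := by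
    intro x
    have hf : IsFinite (gpd pU t s h hS).s := ha.1
    exact hAF _ (((gpd pU t s h hS).s.finite_preimage_singleton x).image _)
  obtain ⟨Y, p, w, ⟨hc⟩, -, hsu, -, -, -, -⟩ := S4085.result S (gpd pU t s h hS) ha hb
  have := mono_j pU t s h hS
  obtain ⟨h1, h2⟩ := S4086.result S (gpd pU t s h hS) ha hb Y p w hc
  let pY : Y ⟶ S := hc.desc (Cofork.ofπ pU
    ((gpd pU t s h hS).t_over.trans (gpd pU t s h hS).s_over.symm))
  have hpY : p ≫ pY = pU := hc.fac (Cofork.ofπ pU
    ((gpd pU t s h hS).t_over.trans (gpd pU t s h hS).s_over.symm)) WalkingParallelPair.one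
  refine ⟨Y, p, pY, h2, hsu, hpY, fun {T} a b => ⟨fun hab => ?_, ?_⟩⟩
  · exact ⟨h1.lift a b hab, h1.lift_fst _ _ _, h1.lift_snd _ _ _⟩
  · rintro ⟨r, rfl, rfl⟩
    rw [Category.assoc, Category.assoc]
    exact congrArg (r ≫ ·) w

end

end Groth.Agent.Sga3.H8.FinQuot
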