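import Groth.Agent.Sga3.H8.FpqcQuot
import Groth.Agent.Sga3.H8.FinQuot
import Groth.Agent.Flat2F.FlatComp
import Groth.Agent.S0114

/-!
# Descent of the quotient `G/N` along a finite locally free morphism

`E` finite locally free and surjective over `S`, `q' : G × E ⟶ Q'` an fpqc quotient of `G × E` by `N` over
`E` such that every finite set of points of `Q'` lies in an affine open.  Then `G/N` exists over `S`.
-/

set_option autoImplicit false
universe v u
open CategoryTheory MonoidalCategory CartesianMonoidalCategory MonObj GrpObj AlgebraicGeometry Limits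

namespace Groth.Agent.Sga3.H8.FinDescQuot

open Groth.Agent.Sga3C.QuotProps Groth.Agent.Sga3.H8.FpqcQuot Groth.Agent.Sga3C.QuotRel

variable {S : Scheme.{u}} {G N E Q' : Over S} [GrpObj G] (n : N ⟶ G) (ψ : Q' ⟶ E)
  (q' : G ⊗ E ⟶ Q')

/-- The data: `q' : G × E ⟶ Q'` over `E` is a quotient by `N`. -/
structure IsQ : Prop where
  w : q' ≫ ψ = snd G E
  flat : Flat q'.left
  surj : Surjective q'.left
  qc : QuasiCompact q'.left
  ker : ∀ (T : Over S) (a b : T ⟶ G) (e : T ⟶ E), lift a e ≫ q' = lift b e ≫ q' ↔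
    ∃ c : T ⟶ N, a⁻¹ * b = c ≫ n

variable {n ψ q'} (h : IsQ n ψ q')

include h

theorem IsQ.eq_of {T : Over S} {x y : T ⟶ G ⊗ E} (hxy : x ≫ q' = y ≫ q') :
    x ≫ snd G E = y ≫ snd G E ∧ ∃ c : T ⟶ N, (x ≫ fst G E)⁻¹ * (y ≫ fst G E) = c ≫ n := by
  have h1 : x ≫ snd G E = y ≫ snd G E := by rw [← h.w, ← Category.assoc, hxy, Category.assoc]
  refine ⟨h1, (h.ker T _ _ (x ≫ snd G E)).1 ?_⟩
  have hx : lift (x ≫ fst G E) (x ≫ snd G E) = x := by ext1 <;> simp
  have hy : lift (y ≫ fst G E) (x ≫ snd G E) = y := by rw [h1]; ext1 <;> simp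
  rw [hx, hy, hxy]

/-- The morphism `(q'(g, x), y) ↦ q'(g, y)`. -/
theorem IsQ.exists_t : ∃ t : Q' ⊗ E ⟶ Q', (q' ▷ E) ≫ t =
    lift (fst (G ⊗ E) E ≫ fst G E) (snd (G ⊗ E) E) ≫ q' := by
  have := h.flat
  have := h.surj
  have := h.qc
  have hid : ∀ (P : MorphismProperty Scheme.{u}) [P.IsStableUnderBaseChange] [P.IsStableUnderComposition]
      [P.ContainsIdentities], P q'.left → P (q' ▷ E).left := by
    intro P _ _ _ hP
    rw [← tensorHom_id]
    exact tensorHom_left_of P q' (𝟙 E) hP (by rw [Over.id_left]; exact P.id_mem _)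
  have f1 : Flat (q' ▷ E).left := hid @Flat ‹_›
  have f2 : Surjective (q' ▷ E).left := hid @Surjective ‹_›
  have f3 : QuasiCompact (q' ▷ E).left := hid @QuasiCompact ‹_›
  refine FpqcQuot.exists_desc (q' ▷ E) _ ?_
  intro T x y hxy
  have e1 : x ≫ snd (G ⊗ E) E = y ≫ snd (G ⊗ E) E := by
    have := congrArg (fun z => z ≫ snd Q' E) hxy
    simpa using this
  have e2 : (x ≫ fst (G ⊗ E) E) ≫ q' = (y ≫ fst (G ⊗ E) E) ≫ q' := by
    have := congrArg (fun z => z ≫ fst Q' E) hxy
    simpa using this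
  obtain ⟨-, c, hc⟩ := h.eq_of e2
  rw [← Category.assoc, ← Category.assoc, comp_lift, comp_lift, e1]
  refine (h.ker T _ _ _).2 ⟨c, ?_⟩
  rw [← hc, Category.assoc, Category.assoc]

omit [GrpObj G] h in
theorem epi_whisker {A B : Over S} (f : A ⟶ B) [Flat f.left] [Surjective f.left] (E : Over S) :
    Epi (f ▷ E) := by
  rw [← tensorHom_id]
  have f1 : Flat (f ⊗ₘ 𝟙 E).left :=
    tensorHom_left_of (@Flat) f (𝟙 E) ‹_› (by rw [Over.id_left]; infer_instance)
  have f2 : Surjective (f ⊗ₘ 𝟙 E).left :=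
    tensorHom_left_of (@Surjective) f (𝟙 E) ‹_› (by rw [Over.id_left]; infer_instance)
  exact epi_of_flat_surjective _

section

variable {t : Q' ⊗ E ⟶ Q'} (ht : (q' ▷ E) ≫ t = lift (fst (G ⊗ E) E ≫ fst G E) (snd (G ⊗ E) E) ≫ q')

include ht

omit h in
omit [GrpObj G] in
theorem lift_t {T : Over S} (g : T ⟶ G) (x y : T ⟶ E) :
    lift (lift g x ≫ q') y ≫ t = lift g y ≫ q' := by
  have h1 : lift (lift g x ≫ q') y = lift (lift g x) y ≫ (q' ▷ E) := by ext1 <;> simp
  rw [h1, Category.assoc, ht, ← Category.assoc, comp_lift]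
  simp

theorem IsQ.t_ψ : t ≫ ψ = snd Q' E := by
  have := h.flat
  have := h.surj
  have := epi_whisker q' E
  rw [← cancel_epi (q' ▷ E), ← Category.assoc, ht, Category.assoc, h.w]
  simp

theorem IsQ.t_refl {T : Over S} (a : T ⟶ Q') : lift a (a ≫ ψ) ≫ t = a := by
  have := h.flat
  have := h.surj
  have := epi_of_flat_surjective q'
  have h1 : lift (𝟙 Q') ψ ≫ t = 𝟙 Q' := by
    rw [← cancel_epi q', ← Category.assoc, comp_lift, Category.comp_id, h.w]
    have h2 : q' = lift (fst G E) (snd G E) ≫ q' := by simp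
    conv_lhs => rw [h2]
    rw [lift_t ht]
    simp
  have h2 : lift a (a ≫ ψ) = a ≫ lift (𝟙 Q') ψ := by simp
  rw [h2, Category.assoc, h1, Category.comp_id]

theorem IsQ.t_trans {T : Over S} (a : T ⟶ Q') (x y : T ⟶ E) :
    lift (lift a x ≫ t) y ≫ t = lift a y ≫ t := by
  have := h.flat
  have := h.surj
  have e1 := epi_whisker q' E
  have e2 : Epi ((q' ▷ E) ▷ E) := by
    have f1 : Flat (q' ▷ E).left := by
      rw [← tensorHom_id]
      exact tensorHom_left_of (@Flat) q' (𝟙 E) ‹_› (by rw [Over.id_left]; infer_instance)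
    have f2 : Surjective (q' ▷ E).left := by
      rw [← tensorHom_id]
      exact tensorHom_left_of (@Surjective) q' (𝟙 E) ‹_› (by rw [Over.id_left]; infer_instance)
    exact epi_whisker _ E
  have h1 : lift (fst (Q' ⊗ E) E ≫ t) (snd (Q' ⊗ E) E) ≫ t =
      lift (fst (Q' ⊗ E) E ≫ fst Q' E) (snd (Q' ⊗ E) E) ≫ t := by
    rw [← cancel_epi ((q' ▷ E) ▷ E), ← Category.assoc, ← Category.assoc, comp_lift, comp_lift]
    simp only [whiskerRight_fst_assoc, whiskerRight_fst, whiskerRight_snd, ht]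
    have h2 : fst ((G ⊗ E) ⊗ E) E ≫ lift (fst (G ⊗ E) E ≫ fst G E) (snd (G ⊗ E) E) ≫ q' =
        lift (fst ((G ⊗ E) ⊗ E) E ≫ fst (G ⊗ E) E ≫ fst G E) (fst ((G ⊗ E) ⊗ E) E ≫ snd (G ⊗ E) E) ≫ q' := by
      rw [← Category.assoc, comp_lift]
    have h3 : fst ((G ⊗ E) ⊗ E) E ≫ fst (G ⊗ E) E ≫ q' =
        lift (fst ((G ⊗ E) ⊗ E) E ≫ fst (G ⊗ E) E ≫ fst G E)
          (fst ((G ⊗ E) ⊗ E) E ≫ fst (G ⊗ E) E ≫ snd G E) ≫ q' := by
      rw [← comp_lift, ← comp_lift]
      simp
    rw [h2, h3, lift_t ht, lift_t ht]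
  have h2 := congrArg (fun z => lift (lift a x) y ≫ z) h1
  simp only [← Category.assoc, comp_lift] at h2
  simpa using h2

/-- The relation on `Q'` given by `t` and the first projection is an equivalence relation. -/
theorem IsQ.isERel : IsERel t.left (fst Q' E).left := by
  -- points over `S`
  have key : ∀ {T : Scheme.{u}} {a b : T ⟶ Q'.left}, Rel t.left (fst Q' E).left a b →
      ∃ (T' : Over S) (eT : T'.left = T) (a' b' : T' ⟶ Q'), a'.left = eqToHom eT ≫ a ∧
        b'.left = eqToHom eT ≫ b ∧ a' = lift b' (a' ≫ ψ) ≫ t := by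
    rintro T a b ⟨r, rfl, rfl⟩
    let T' : Over S := Over.mk (r ≫ (Q' ⊗ E).hom)
    let r' : T' ⟶ Q' ⊗ E := Over.homMk r rfl
    refine ⟨T', rfl, r' ≫ t, r' ≫ fst Q' E, ?_, ?_, ?_⟩
    · simp [r', T']
    · simp [r', T']
    · rw [Category.assoc, h.t_ψ ht]
      congr 1
      ext1 <;> simp
  have key2 : ∀ {T : Over S} (a b : T ⟶ Q'), a = lift b (a ≫ ψ) ≫ t →
      Rel t.left (fst Q' E).left a.left b.left := by
    intro T a b hab
    refine ⟨(lift b (a ≫ ψ)).left, ?_, ?_⟩
    · rw [← Over.comp_left, ← hab]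
    · rw [← Over.comp_left, lift_fst]
  constructor
  · intro T x y h1 h2
    let T' : Over S := Over.mk (x ≫ (Q' ⊗ E).hom)
    have hy : y ≫ (Q' ⊗ E).hom = x ≫ (Q' ⊗ E).hom := by
      rw [← Over.w (fst Q' E), ← Category.assoc, ← Category.assoc, h2]
    let x' : T' ⟶ Q' ⊗ E := Over.homMk x rfl
    let y' : T' ⟶ Q' ⊗ E := Over.homMk y hy
    have h3 : x' ≫ t = y' ≫ t := by ext1; exact h1
    have h4 : x' ≫ fst Q' E = y' ≫ fst Q' E := by ext1; exact h2
    have h5 : x' ≫ snd Q' E = y' ≫ snd Q' E := by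
      rw [← h.t_ψ ht, ← Category.assoc, h3, Category.assoc]
    have h6 : x' = y' := by ext1 <;> assumption
    exact congrArg (fun z => Over.Hom.left z) h6
  · intro T a
    let T' : Over S := Over.mk (a ≫ Q'.hom)
    let a' : T' ⟶ Q' := Over.homMk a rfl
    exact key2 a' a' (h.t_refl ht a').symm
  · intro T a b hab
    obtain ⟨T', rfl, a', b', ha, hb, hab'⟩ := key hab
    rw [eqToHom_refl, Category.id_comp] at ha hb
    rw [← ha, ← hb]
    refine key2 b' a' ?_
    conv_rhs => rw [hab']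
    rw [h.t_trans ht, h.t_refl ht]
  · intro T a b c hab hbc
    obtain ⟨r, ra, rb⟩ := hab
    obtain ⟨r', rb', rc⟩ := hbc
    let T' : Over S := Over.mk (r ≫ (Q' ⊗ E).hom)
    have hr' : r' ≫ (Q' ⊗ E).hom = r ≫ (Q' ⊗ E).hom := by
      rw [← Over.w t, ← Category.assoc, rb', ← rb, Category.assoc, Over.w, Over.w]
    let x : T' ⟶ Q' ⊗ E := Over.homMk r rfl
    let y : T' ⟶ Q' ⊗ E := Over.homMk r' hr'
    have hxy : x ≫ fst Q' E = y ≫ t := by
      ext1
      exact rb.trans rb'.symm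
    have h1 : x ≫ t = lift (x ≫ fst Q' E) (x ≫ snd Q' E) ≫ t := by
      congr 1
      ext1 <;> simp
    have h2 : y ≫ t = lift (y ≫ fst Q' E) (y ≫ snd Q' E) ≫ t := by
      congr 1
      ext1 <;> simp
    have h3 : x ≫ t = lift (y ≫ fst Q' E) (x ≫ snd Q' E) ≫ t := by
      rw [h1, hxy, h2, h.t_trans ht]
    have h4 := key2 (x ≫ t) (y ≫ fst Q' E) (by
      rw [Category.assoc, h.t_ψ ht]
      exact h3)
    have e1 : (x ≫ t).left = a := ra
    have e2 : (y ≫ fst Q' E).left = c := rc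
    rw [e1, e2] at h4
    exact h4

end

/-- **Descent of the quotient along `E ⟶ S` finite locally free and surjective.** -/
theorem IsQ.exists_quotient [Mono n] (hE : Mor2.IsFinLocFree E.hom) [Surjective E.hom]
    (hAF : ∀ F : Set Q'.left, F.Finite → ∃ V : Q'.left.Opens, IsAffineOpen V ∧ F ⊆ (V : Set Q'.left)) :
    ∃ (Q : Over S) (q : G ⟶ Q) (p : Q' ⟶ Q), Mor2.IsFinLocFree p.left ∧ Surjective p.left ∧
      Flat q.left ∧ Surjective q.left ∧ QuasiCompact q.left ∧ KerRel n q ∧ q' ≫ p = fst G E ≫ q := by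
  obtain ⟨t, ht⟩ := h.exists_t
  obtain ⟨hE1, hE2, hE3⟩ := hE
  have hs : ∀ X : Over S, IsPullback (fst X E).left (snd X E).left X.hom E.hom :=
    fun X => IsPullback.of_hasPullback X.hom E.hom
  have s1 : ∀ X : Over S, IsFinite (fst X E).left := fun X =>
    MorphismProperty.of_isPullback (P := @IsFinite) (hs X).flip inferInstance
  have s2 : ∀ X : Over S, Flat (fst X E).left := fun X =>
    MorphismProperty.of_isPullback (P := @Flat) (hs X).flip inferInstance
  have s3 : ∀ X : Over S, LocallyOfFinitePresentation (fst X E).left := fun X =>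
    MorphismProperty.of_isPullback (P := @LocallyOfFinitePresentation) (hs X).flip inferInstance
  have s4 : ∀ X : Over S, Surjective (fst X E).left := fun X =>
    MorphismProperty.of_isPullback (P := @Surjective) (hs X).flip inferInstance
  have hS : t.left ≫ Q'.hom = (fst Q' E).left ≫ Q'.hom := by rw [Over.w, Over.w]
  obtain ⟨Y, p, pY, hp1, hp2, hp3, hp4⟩ := FinQuot.exists_quotient Q'.hom t.left (fst Q' E).left
    (h.isERel ht) hS ⟨s1 Q', s2 Q', s3 Q'⟩ hAF
  let Q : Over S := Over.mk pY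
  let p' : Q' ⟶ Q := Over.homMk p hp3
  have hp4' : ∀ {T : Over S} (a b : T ⟶ Q'), a ≫ p' = b ≫ p' ↔ a = lift b (a ≫ ψ) ≫ t := by
    intro T a b
    constructor
    · intro hab
      obtain ⟨r, hr1, hr2⟩ := (hp4 a.left b.left).1 (congrArg (fun z => Over.Hom.left z) hab)
      have hr : r ≫ (Q' ⊗ E).hom = T.hom := by
        rw [← Over.w (fst Q' E), ← Category.assoc, hr2, Over.w]
      let r' : T ⟶ Q' ⊗ E := Over.homMk r hr
      have e1 : r' ≫ t = a := by ext1; exact hr1
      have e2 : r' ≫ fst Q' E = b := by ext1; exact hr2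
      have e3 : r' ≫ snd Q' E = a ≫ ψ := by rw [← e1, Category.assoc, h.t_ψ ht]
      have e4 : r' = lift b (a ≫ ψ) := by
        ext1
        · rw [e2, lift_fst]
        · rw [e3, lift_snd]
      rw [← e4, e1]
    · intro hab
      ext1
      refine (hp4 a.left b.left).2 ⟨(lift b (a ≫ ψ)).left, ?_, ?_⟩
      · rw [← Over.comp_left, ← hab]
      · rw [← Over.comp_left, lift_fst]
  have := h.flat
  have := h.surj
  have := h.qc
  have g1 := s1 G
  have g2 := s2 G
  have g4 := s4 G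
  have pl : Flat p'.left := hp1.2.1
  have pf : IsFinite p'.left := hp1.1
  have psu : Surjective p'.left := hp2
  -- the quotient map
  obtain ⟨q, hq⟩ := FpqcQuot.exists_desc (fst G E) (q' ≫ p') (by
    intro T x y hxy
    rw [← Category.assoc, ← Category.assoc, hp4']
    have hx : x = lift (x ≫ fst G E) (x ≫ snd G E) := by ext1 <;> simp
    have hy : y = lift (x ≫ fst G E) (y ≫ snd G E) := by rw [hxy]; ext1 <;> simp
    have hx' : x ≫ q' = lift (x ≫ fst G E) (x ≫ snd G E) ≫ q' := by rw [← hx]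
    have hy' : y ≫ q' = lift (x ≫ fst G E) (y ≫ snd G E) ≫ q' := by rw [← hy]
    have hxψ : (x ≫ q') ≫ ψ = x ≫ snd G E := by rw [Category.assoc, h.w]
    rw [hxψ, hy', lift_t ht, ← hx'])
  have hql : (fst G E).left ≫ q.left = q'.left ≫ p'.left := by
    rw [← Over.comp_left, hq, Over.comp_left]
  have qfl : Flat q.left := by
    have : Flat ((fst G E).left ≫ q.left) := by rw [hql]; infer_instance
    exact Groth.Agent.Flat2F.FlatComp.flat_of_flat_comp_of_flat_surjective (fst G E).left q.left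
  have qsu : Surjective q.left := by
    have : Surjective ((fst G E).left ≫ q.left) := by rw [hql]; infer_instance
    exact Surjective.of_comp (fst G E).left q.left
  have qqc : QuasiCompact q.left := by
    have h1 : QuasiCompact ((fst G E).left ≫ q.left) := by rw [hql]; infer_instance
    refine ⟨fun K hK hK' => ?_⟩
    have h2 : IsCompact (((fst G E).left ≫ q.left) ⁻¹' K) := h1.isCompact_preimage K hK hK'
    have h3 : q.left ⁻¹' K = (fst G E).left '' (((fst G E).left ≫ q.left) ⁻¹' K) := by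
      ext x
      obtain ⟨y, rfl⟩ := (fst G E).left.surjective x
      constructor
      · intro hx
        exact ⟨y, by simpa using hx, rfl⟩
      · rintro ⟨z, hz, hzy⟩
        rw [Set.mem_preimage, ← hzy]
        simpa using hz
    rw [h3]
    exact h2.image (fst G E).left.continuous
  refine ⟨Q, q, p', hp1, hp2, qfl, qsu, qqc, ?_, hq.symm⟩
  -- the kernel
  intro T a b
  have t1 := s1 T
  have t2 := s2 T
  have t4 := s4 T
  have hepi := epi_of_flat_surjective (fst T E)
  have hfac : ∀ a : T ⟶ G, fst T E ≫ a ≫ q = lift (fst T E ≫ a) (snd T E) ≫ q' ≫ p' := by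
    intro a
    rw [← hq, ← Category.assoc (lift _ _), lift_fst, Category.assoc]
  have hiff : a ≫ q = b ≫ q ↔ lift (fst T E ≫ a) (snd T E) ≫ q' = lift (fst T E ≫ b) (snd T E) ≫ q' := by
    rw [← cancel_epi (fst T E), hfac, hfac, ← Category.assoc, ← Category.assoc, hp4']
    have e : (lift (fst T E ≫ a) (snd T E) ≫ q') ≫ ψ = snd T E := by
      rw [Category.assoc, h.w, lift_snd]
    rw [e, lift_t ht]
  rw [hiff, h.ker]
  constructor
  · rintro ⟨c', hc'⟩
    have hc'' : c' ≫ n = fst T E ≫ (a⁻¹ * b) := by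
      rw [← hc', comp_mul, comp_inv]
    obtain ⟨c, hc⟩ := FpqcQuot.exists_desc (fst T E) c' (by
      intro W x y hxy
      rw [← cancel_mono n, Category.assoc, Category.assoc, hc'', ← Category.assoc, hxy,
        Category.assoc])
    refine ⟨c, ?_⟩
    rw [← cancel_epi (fst T E), ← hc'', ← hc, Category.assoc]
  · rintro ⟨c, hc⟩
    exact ⟨fst T E ≫ c, by rw [Category.assoc, ← hc, comp_mul, comp_inv]⟩

end Groth.Agent.Sga3.H8.FinDescQuot
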