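import Groth.Agent.Sga3C.QuotGrpObj
import Groth.Agent.Sga3C.QuotProps
import Groth.Prelude.Def_AlgGrp
import Mathlib.AlgebraicGeometry.Sites.Fpqc
import Mathlib.AlgebraicGeometry.Morphisms.ClosedImmersion

/-!
# Quotients of group schemes for the fpqc topology: quasi-compact flat surjections

`KerRel n p` says that the `T`-points of `G` with the same image under `p : G ⟶ X` are the pairs
`(a, b)` with `a⁻¹ b` in `N`.  If `N` is normal and `p` is flat, surjective and quasi-compact then `X`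
is a group scheme and `p` a homomorphism with kernel `N`.
-/

set_option autoImplicit false
universe v u
open CategoryTheory MonoidalCategory CartesianMonoidalCategory MonObj GrpObj AlgebraicGeometry Limits

namespace Groth.Agent.Sga3.H8.FpqcQuot

open Groth.Agent.Sga3C.QuotProps

section Cat

variable {C : Type u} [Category.{v} C] [CartesianMonoidalCategory C]

/-- The points of `G` with the same image under `p` are those which agree modulo `N`. -/
def KerRel {N G X : C} [GrpObj G] (n : N ⟶ G) (p : G ⟶ X) : Prop :=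
  ∀ (T : C) (a b : T ⟶ G), a ≫ p = b ≫ p ↔ ∃ c : T ⟶ N, a⁻¹ * b = c ≫ n

theorem KerRel.comp_mono {N G X Y : C} [GrpObj G] {n : N ⟶ G} {p : G ⟶ X} (h : KerRel n p)
    (i : X ⟶ Y) [Mono i] : KerRel n (p ≫ i) := by
  intro T a b
  rw [← h T a b, ← Category.assoc, ← Category.assoc, cancel_mono]

theorem KerRel.of_comp_mono {N G X Y : C} [GrpObj G] {n : N ⟶ G} {p : G ⟶ X} (i : X ⟶ Y) [Mono i]
    (h : KerRel n (p ≫ i)) : KerRel n p := by
  intro T a b
  rw [← h T a b, ← Category.assoc, ← Category.assoc, cancel_mono i]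

/-- `p` has the same value at `a` and `a * (c ≫ n)`. -/
theorem KerRel.mul_comp {N G X : C} [GrpObj G] {n : N ⟶ G} {p : G ⟶ X} (h : KerRel n p)
    {T : C} (a : T ⟶ G) (c : T ⟶ N) : (a * (c ≫ n)) ≫ p = a ≫ p :=
  ((h T a (a * (c ≫ n))).2 ⟨c, by simp⟩).symm

theorem KerRel.exists_eq {N G X : C} [GrpObj G] {n : N ⟶ G} {p : G ⟶ X} (h : KerRel n p)
    {T : C} {a b : T ⟶ G} (hab : a ≫ p = b ≫ p) : ∃ c : T ⟶ N, b = a * (c ≫ n) := by
  obtain ⟨c, hc⟩ := (h T a b).1 hab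
  exact ⟨c, by rw [← hc]; simp⟩

end Cat

variable {S : Scheme.{u}}

/-- Descent of morphisms along an fpqc cover, in `Over S`. -/
theorem exists_desc {G X Z : Over S} (p : G ⟶ X) [Flat p.left] [Surjective p.left]
    [QuasiCompact p.left] (f : G ⟶ Z)
    (hf : ∀ (T : Over S) (x y : T ⟶ G), x ≫ p = y ≫ p → x ≫ f = y ≫ f) : ∃ g : X ⟶ Z, p ≫ g = f := by
  have hf' : ∀ {W : Scheme.{u}} (g₁ g₂ : W ⟶ G.left), g₁ ≫ p.left = g₂ ≫ p.left → g₁ ≫ f.left = g₂ ≫ f.left := by
    intro W g₁ g₂ h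
    have h2 : g₂ ≫ G.hom = g₁ ≫ G.hom := by
      rw [← Over.w p, ← Category.assoc, ← Category.assoc, h]
    let T : Over S := Over.mk (g₁ ≫ G.hom)
    have := hf T (Over.homMk g₁ rfl) (Over.homMk g₂ h2) (by ext1; exact h)
    exact congrArg (fun z => Over.Hom.left z) this
  have hp : Epi p.left := Flat.epi_of_flat_of_surjective _
  have hfac := EffectiveEpi.fac p.left f.left hf'
  refine ⟨Over.homMk (EffectiveEpi.desc p.left f.left hf') ?_, ?_⟩
  · rw [← cancel_epi p.left, ← Category.assoc, hfac, Over.w, Over.w]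
  · ext1
    exact hfac

variable {N G X : Over S} [GrpObj G]

/-- The quotient of a group scheme by a normal subgroup scheme is a group scheme. -/
theorem exists_grpObj [GrpObj N] (n : N ⟶ G) [IsMonHom n] (p : G ⟶ X) [Flat p.left]
    [Surjective p.left] [QuasiCompact p.left] (hp : KerRel n p) (hN : AlgGrp.IsNormalHom n) :
    ∃ _ : GrpObj X, IsMonHom p := by
  have f2 : Flat (p ⊗ₘ p).left := tensorHom_left_of (@Flat) p p ‹_› ‹_›
  have s2 : Surjective (p ⊗ₘ p).left := tensorHom_left_of (@Surjective) p p ‹_› ‹_›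
  have l2 : QuasiCompact (p ⊗ₘ p).left := tensorHom_left_of (@QuasiCompact) p p ‹_› ‹_›
  obtain ⟨m, hm⟩ := exists_desc (p ⊗ₘ p) (μ[G] ≫ p) (by
    intro T x y hxy
    have e1 : (x ≫ fst G G) ≫ p = (y ≫ fst G G) ≫ p := by
      have := congrArg (fun z => z ≫ fst X X) hxy
      simpa using this
    have e2 : (x ≫ snd G G) ≫ p = (y ≫ snd G G) ≫ p := by
      have := congrArg (fun z => z ≫ snd X X) hxy
      simpa using this
    obtain ⟨c₁, h₁⟩ := hp.exists_eq e1
    obtain ⟨c₂, h₂⟩ := hp.exists_eq e2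
    obtain ⟨c₃, h₃⟩ := hN T (x ≫ snd G G)⁻¹ c₁
    have ex : x ≫ μ[G] = (x ≫ fst G G) * (x ≫ snd G G) := by
      rw [Hom.mul_def]; congr 1; ext1 <;> simp
    have ey : y ≫ μ[G] = (y ≫ fst G G) * (y ≫ snd G G) := by
      rw [Hom.mul_def]; congr 1; ext1 <;> simp
    rw [← Category.assoc, ← Category.assoc, ex, ey, h₁, h₂]
    have e3 : (x ≫ fst G G) * (c₁ ≫ n) * ((x ≫ snd G G) * (c₂ ≫ n)) =
        (x ≫ fst G G) * (x ≫ snd G G) * ((c₃ * c₂) ≫ n) := by
      rw [mul_comp, ← h₃]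
      group
    rw [e3, hp.mul_comp])
  obtain ⟨i, hi⟩ := exists_desc p (ι[G] ≫ p) (by
    intro T x y hxy
    obtain ⟨c, h⟩ := hp.exists_eq hxy
    obtain ⟨c', hc'⟩ := hN T x c⁻¹
    have ex : x ≫ ι[G] = x⁻¹ := rfl
    have ey : y ≫ ι[G] = y⁻¹ := rfl
    rw [← Category.assoc, ← Category.assoc, ex, ey, h]
    have e3 : (x * (c ≫ n))⁻¹ = x⁻¹ * (c' ≫ n) := by
      rw [← hc', inv_comp]
      group
    rw [e3, hp.mul_comp])
  have := epi_of_flat_surjective p
  have fl : Flat (𝟙 (𝟙_ (Over S)) ⊗ₘ p).left := tensorHom_left_of (@Flat) _ p (by rw [Over.id_left]; infer_instance) ‹_›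
  have sl : Surjective (𝟙 (𝟙_ (Over S)) ⊗ₘ p).left :=
    tensorHom_left_of (@Surjective) _ p (by rw [Over.id_left]; infer_instance) ‹_›
  have fr : Flat (p ⊗ₘ 𝟙 (𝟙_ (Over S))).left := tensorHom_left_of (@Flat) p _ ‹_› (by rw [Over.id_left]; infer_instance)
  have sr : Surjective (p ⊗ₘ 𝟙 (𝟙_ (Over S))).left :=
    tensorHom_left_of (@Surjective) p _ ‹_› (by rw [Over.id_left]; infer_instance)
  have f3 : Flat ((p ⊗ₘ p) ⊗ₘ p).left := tensorHom_left_of (@Flat) _ p ‹_› ‹_›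
  have s3 : Surjective ((p ⊗ₘ p) ⊗ₘ p).left := tensorHom_left_of (@Surjective) _ p ‹_› ‹_›
  have := epi_of_flat_surjective (𝟙 (𝟙_ (Over S)) ⊗ₘ p)
  have := epi_of_flat_surjective (p ⊗ₘ 𝟙 (𝟙_ (Over S)))
  have := epi_of_flat_surjective ((p ⊗ₘ p) ⊗ₘ p)
  obtain ⟨g, hg, -⟩ := Groth.Agent.Sga3C.QuotGrpObj.exists_grpObj p m hm i hi (fun _ _ => (cancel_epi _).mp)
    (fun _ _ => (cancel_epi _).mp) (fun _ _ => (cancel_epi _).mp) (fun _ _ => (cancel_epi _).mp)
  exact ⟨g, hg⟩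

/-- The kernel of the quotient map `G ⟶ G/N` is `N`. -/
theorem isKernel [GrpObj N] [GrpObj X] (n : N ⟶ G) [Mono n] [IsMonHom n] (p : G ⟶ X) [IsMonHom p]
    (hp : KerRel n p) : AlgGrp.IsKernel n p := by
  have h0 : n ≫ p = toUnit N ≫ η[X] := by
    have h := hp.mul_comp (1 : N ⟶ G) (𝟙 N)
    rw [Category.id_comp, _root_.one_mul, one_comp] at h
    exact h
  have key : ∀ s : PullbackCone p η[X], ∃ c : s.pt ⟶ N, c ≫ n = s.fst := by
    intro s
    have h1 : (1 : s.pt ⟶ G) ≫ p = s.fst ≫ p := by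
      rw [s.condition, one_comp, Hom.one_def]
      congr 1
      exact toUnit_unique _ _
    obtain ⟨c, hc⟩ := hp.exists_eq h1
    exact ⟨c, by rw [hc, _root_.one_mul]⟩
  choose l hl using key
  refine ⟨⟨h0⟩, ⟨PullbackCone.IsLimit.mk _ l hl (fun s => toUnit_unique _ _) ?_⟩⟩
  intro s m hm _
  rw [← cancel_mono n, hm, hl]

/-- Conversely a homomorphism with kernel `N` satisfies `KerRel`. -/
theorem kerRel_of_isKernel {C : Type*} [Category C] [CartesianMonoidalCategory C] {N G X : C} [GrpObj G]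
    [GrpObj X] (n : N ⟶ G) (p : G ⟶ X) [IsMonHom p] (h : IsPullback n (toUnit N) p η[X]) : KerRel n p := by
  intro T a b
  constructor
  · intro hab
    have h1 : (a⁻¹ * b) ≫ p = toUnit T ≫ η[X] := by
      rw [mul_comp, inv_comp, hab, inv_mul_cancel, Hom.one_def]
    exact ⟨h.lift _ _ h1, (h.lift_fst _ _ h1).symm⟩
  · rintro ⟨c, hc⟩
    have h1 : b = a * (c ≫ n) := by rw [← hc]; simp
    have h2 : (c ≫ n) ≫ p = 1 := by
      rw [Category.assoc, h.w, ← Category.assoc, Hom.one_def]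
      congr 1
      exact toUnit_unique _ _
    rw [h1, mul_comp, h2, _root_.mul_one]

end Groth.Agent.Sga3.H8.FpqcQuot
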