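import Mathlib.AlgebraicGeometry.Morphisms.UniversallyOpen
import Mathlib.AlgebraicGeometry.ResidueField
import Mathlib.AlgebraicGeometry.Group.Smooth
import Mathlib.CategoryTheory.Monoidal.Cartesian.Over
import Mathlib.CategoryTheory.Monoidal.Cartesian.Grp
import Groth.Agent.Sga3C.QuotProps

/-!
# Maximal points and translations of a group scheme over a field

Over a field `k`, let `V` be an open of the group scheme `G` which contains all the maximal points of
`G`.  Then `(g, h) ↦ g⁻¹ h` defines a flat surjective morphism `V × V ⟶ G`.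
-/

set_option autoImplicit false
universe v u
open CategoryTheory MonoidalCategory CartesianMonoidalCategory MonObj GrpObj AlgebraicGeometry Limits

namespace Groth.Agent.Sga3.H8.MaxPt

open Groth.Agent.Sga3C.QuotProps

/-- `x` is a maximal point: it has no proper generization. -/
def IsMaxPt {X : Type*} [TopologicalSpace X] (x : X) : Prop := ∀ y, y ⤳ x → y = x

/-- Every point of a scheme is a specialization of a maximal point. -/
theorem exists_isMaxPt {X : Scheme.{u}} (x : X) : ∃ y : X, y ⤳ x ∧ IsMaxPt y := by
  have hirr : IsIrreducible (irreducibleComponent x) := isIrreducible_irreducibleComponent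
  have hcl : IsClosed (irreducibleComponent x) := isClosed_irreducibleComponent
  have hg : IsGenericPoint hirr.genericPoint (irreducibleComponent x) := by
    have := hirr.isGenericPoint_genericPoint_closure
    rwa [hcl.closure_eq] at this
  refine ⟨hirr.genericPoint, ?_, ?_⟩
  · exact hg.specializes mem_irreducibleComponent
  · intro y hy
    have h1 : closure {hirr.genericPoint} ⊆ closure {y} := by
      rw [← specializes_iff_closure_subset]; exact hy
    have h2 : irreducibleComponent x ⊆ closure {y} := by
      rw [← hg.def]; exact h1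
    have h3 : closure {y} = irreducibleComponent x := by
      refine subset_antisymm ?_ h2
      exact (irreducibleComponent_mem_irreducibleComponents x).2 isIrreducible_singleton.closure h2
    have h4 : IsGenericPoint y (irreducibleComponent x) := h3
    exact h4.eq hg

/-- A flat morphism maps maximal points to maximal points. -/
theorem IsMaxPt.map {X Y : Scheme.{u}} (f : X ⟶ Y) [Flat f] {x : X} (hx : IsMaxPt x) :
    IsMaxPt (f x) := by
  intro y hy
  obtain ⟨z, hz, rfl⟩ := Flat.generalizingMap f hy
  rw [hx z hz]

variable {k : Type u} [Field k] {G : Over (Spec (CommRingCat.of k))} [GrpObj G]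

/-- The projection `G × G ⟶ G` restricted to a fibre of the other projection is flat. -/
theorem flat_fst_of_isPullback {F : Scheme.{u}} (x : G.left) (i : F ⟶ (G ⊗ G).left)
    (π : F ⟶ Spec (G.left.residueField x))
    (h : IsPullback i π (snd G G).left (G.left.fromSpecResidueField x)) :
    Flat (i ≫ (fst G G).left) := by
  have h1 : IsPullback (fst G G).left (snd G G).left G.hom G.hom :=
    IsPullback.of_hasPullback G.hom G.hom
  have h2 := h.paste_horiz h1
  exact MorphismProperty.of_isPullback (P := @Flat) h2.flip inferInstance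

/-- The automorphism `(g, x) ↦ (g x, x)` of `G × G`. -/
theorem exists_mem (V : G.left.Opens) (hV : ∀ x : G.left, IsMaxPt x → x ∈ V) (x : G.left) :
    ∃ z : (G ⊗ G : Over (Spec (CommRingCat.of k))).left, (snd G G).left z = x ∧
      (fst G G).left z ∈ V ∧ (μ[G] : G ⊗ G ⟶ G).left z ∈ V := by
  let F := pullback (snd G G).left (G.left.fromSpecResidueField x)
  let i : F ⟶ (G ⊗ G).left := pullback.fst _ _
  let π : F ⟶ Spec (G.left.residueField x) := pullback.snd _ _
  have h : IsPullback i π (snd G G).left (G.left.fromSpecResidueField x) := IsPullback.of_hasPullback _ _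
  have h1 := flat_fst_of_isPullback x i π h
  -- the shear
  have hsh : (shear G).hom ≫ snd G G = snd G G := by simp [shear]
  have hsh' : (shear G).hom ≫ fst G G = μ[G] := by simp [shear]
  have h' : IsPullback (i ≫ (shear G).hom.left) π (snd G G).left (G.left.fromSpecResidueField x) := by
    have e : IsIso (shear G).hom.left := inferInstance
    have h3 : IsPullback (shear G).hom.left (snd G G).left (snd G G).left (𝟙 G.left) := by
      refine IsPullback.of_horiz_isIso ⟨?_⟩
      rw [Category.comp_id, ← Over.comp_left, hsh]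
    have h4 := h.flip.paste_vert h3.flip
    rw [Category.comp_id] at h4
    exact h4.flip
  have h2 := flat_fst_of_isPullback x _ π h'
  rw [Category.assoc, ← Over.comp_left, hsh'] at h2
  -- the fibre is not empty
  have hsurj : Surjective (snd G G).left := by
    have : (lift (toUnit G ≫ η[G]) (𝟙 G)).left ≫ (snd G G).left = 𝟙 G.left := by
      rw [← Over.comp_left, lift_snd, Over.id_left]
    constructor
    intro y
    refine ⟨(lift (toUnit G ≫ η[G]) (𝟙 G)).left y, ?_⟩
    rw [← Scheme.Hom.comp_apply, this]; rfl
  have hπ : Surjective π := inferInstance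
  obtain ⟨f0, -⟩ := hπ.surj (IsLocalRing.closedPoint _)
  obtain ⟨f, -, hf⟩ := exists_isMaxPt f0
  refine ⟨i f, ?_, ?_, ?_⟩
  · rw [← Scheme.Hom.comp_apply, h.w, Scheme.Hom.comp_apply]
    have : (G.left.fromSpecResidueField x) (π f) ∈ Set.range (G.left.fromSpecResidueField x) := ⟨_, rfl⟩
    rw [Scheme.range_fromSpecResidueField] at this
    exact this
  · have := hV _ (hf.map (i ≫ (fst G G).left))
    rwa [Scheme.Hom.comp_apply] at this
  · have := hV _ (hf.map (i ≫ (μ[G] : G ⊗ G ⟶ G).left))
    rwa [Scheme.Hom.comp_apply] at this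

/-- `(g, h) ↦ g⁻¹ h` on `V ⊗ V`, `j : V ⟶ G`. -/
noncomputable def delta {C : Type u} [Category.{v} C] [CartesianMonoidalCategory C] {G V : C}
    [GrpObj G] (j : V ⟶ G) : V ⊗ V ⟶ G := (fst V V ≫ j)⁻¹ * (snd V V ≫ j)

/-- The automorphism `(g, h) ↦ (g, g⁻¹ h)` of `G ⊗ G`. -/
noncomputable def shearInv {C : Type u} [Category.{v} C] [CartesianMonoidalCategory C] (G : C)
    [GrpObj G] : G ⊗ G ≅ G ⊗ G where
  hom := lift (fst G G) ((fst G G)⁻¹ * (snd G G))
  inv := lift (fst G G) (fst G G * snd G G)
  hom_inv_id := by
    ext1
    · simp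
    · simp only [comp_lift, lift_snd, comp_mul, lift_fst, Category.id_comp, mul_inv_cancel_left]
  inv_hom_id := by
    ext1
    · simp
    · simp only [comp_lift, lift_snd, comp_mul, comp_inv, lift_fst, Category.id_comp, inv_mul_cancel_left]

theorem delta_eq {C : Type u} [Category.{v} C] [CartesianMonoidalCategory C] {G V : C}
    [GrpObj G] (j : V ⟶ G) : delta j = (j ⊗ₘ j) ≫ (shearInv G).hom ≫ snd G G := by
  simp only [delta, shearInv, lift_snd, comp_mul, comp_inv, tensorHom_fst, tensorHom_snd]

theorem flat_delta {V : Over (Spec (CommRingCat.of k))} (j : V ⟶ G) [Flat j.left] :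
    Flat (delta j).left := by
  rw [delta_eq, Over.comp_left, Over.comp_left]
  have h1 : Flat (j ⊗ₘ j).left := tensorHom_left_of (@Flat) j j ‹_› ‹_›
  have h2 : Flat (snd G G).left := by
    have : IsPullback (fst G G).left (snd G G).left G.hom G.hom :=
      IsPullback.of_hasPullback G.hom G.hom
    exact MorphismProperty.of_isPullback (P := @Flat) this inferInstance
  infer_instance

/-- `(g, h) ↦ g⁻¹ h` is surjective on `V × V` when the open `V` contains the maximal points. -/
theorem surjective_delta {V : Over (Spec (CommRingCat.of k))} (j : V ⟶ G) [IsOpenImmersion j.left]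
    (hV : ∀ x : G.left, IsMaxPt x → x ∈ Set.range j.left) : Surjective (delta j).left := by
  constructor
  intro x
  obtain ⟨z, hz1, hz2, hz3⟩ := exists_mem (G := G) j.left.opensRange (fun x hx => hV x hx) x
  -- the point of `G × G`
  let w : (G ⊗ G).left := (lift (fst G G) μ[G]).left z
  have hw1 : (fst G G).left w ∈ j.left.opensRange := by
    rw [← Scheme.Hom.comp_apply, ← Over.comp_left, lift_fst]; exact hz2
  have hw2 : (snd G G).left w ∈ j.left.opensRange := by
    rw [← Scheme.Hom.comp_apply, ← Over.comp_left, lift_snd]; exact hz3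
  have hw3 : ((shearInv G).hom ≫ snd G G).left w = x := by
    rw [← Scheme.Hom.comp_apply, ← Over.comp_left]
    have : lift (fst G G) μ[G] ≫ (shearInv G).hom ≫ snd G G = snd G G := by
      have hμ : μ[G] = fst G G * snd G G := by rw [Hom.mul_def]; simp
      simp only [shearInv, lift_snd, comp_mul, comp_inv, lift_fst, hμ, inv_mul_cancel_left]
    rw [this, hz1]
  -- lift to `V × V`
  have hrange : w ∈ Set.range (j ⊗ₘ j).left := by
    have e : Set.range (pullback.map V.hom V.hom G.hom G.hom j.left j.left (𝟙 _)
        (by rw [Category.comp_id, Over.w]) (by rw [Category.comp_id, Over.w])) =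
        (pullback.fst G.hom G.hom) ⁻¹' (Set.range j.left) ∩ (pullback.snd G.hom G.hom) ⁻¹' (Set.range j.left) :=
      Scheme.Pullback.range_map _ _ _ _ _ _ _ _ _
    have e2 : (j ⊗ₘ j).left = pullback.map V.hom V.hom G.hom G.hom j.left j.left (𝟙 _)
        (by rw [Category.comp_id, Over.w]) (by rw [Category.comp_id, Over.w]) := rfl
    rw [e2]
    exact e.symm ▸ ⟨hw1, hw2⟩
  obtain ⟨v, hv⟩ := hrange
  refine ⟨v, ?_⟩
  rw [delta_eq, Over.comp_left, Scheme.Hom.comp_apply, hv, hw3]

end Groth.Agent.Sga3.H8.MaxPt
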