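import Groth.Agent.Sga3.H8.FpqcQuot
import Groth.Agent.Sga3.H8.MaxPt
import Groth.Agent.GrpQ.H776.Exist
import Groth.Agent.Flat2F.FlatComp
import Groth.Agent.Flat2D.LfpComp
import Groth.Agent.S0114
import Groth.Agent.Localalg.GrpSchComp2
import Mathlib.AlgebraicGeometry.Noetherian

/-!
# The algebraic quotient of a quasi-compact group scheme from a generically flat "mono modulo N"

`G` a quasi-compact group scheme over a field, `N` a closed normal subgroup, `f : G ⟶ Z` a morphism to
a separated scheme of finite type with `f a = f b` iff `a⁻¹ b ∈ N`, and `U ⊆ Z` open such that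
`f⁻¹ U ⟶ U` is flat and surjective and `f⁻¹ U` contains all maximal points of `G`.  Then `G/N` is a
group scheme of finite type.
-/

set_option autoImplicit false
universe v u
open CategoryTheory MonoidalCategory CartesianMonoidalCategory MonObj GrpObj AlgebraicGeometry Limits

namespace Groth.Agent.Sga3.H8.Quot3a

open Groth.Agent.Sga3C.QuotProps Groth.Agent.Sga3.H8.FpqcQuot Groth.Agent.Sga3.H8.MaxPt

/-- The kernel pair of a "quotient" map. -/
theorem isPullback_of_kerRel {C : Type u} [Category.{v} C] [CartesianMonoidalCategory C] {N G X : C}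
    [GrpObj G] (n : N ⟶ G) [Mono n] (p : G ⟶ X) (h : KerRel n p) :
    IsPullback (fst G N) (fst G N * (snd G N ≫ n)) p p := by
  have key : ∀ s : PullbackCone p p, ∃ c : s.pt ⟶ N, s.snd = s.fst * (c ≫ n) :=
    fun s => h.exists_eq s.condition
  choose l hl using key
  refine ⟨⟨(h.mul_comp _ _).symm⟩, ⟨PullbackCone.IsLimit.mk _ (fun s => lift s.fst (l s)) ?_ ?_ ?_⟩⟩
  · intro s; simp
  · intro s
    rw [comp_mul, lift_fst, lift_snd_assoc, ← hl]
  · intro s m hm1 hm2
    ext1
    · rw [lift_fst, hm1]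
    · rw [lift_snd, ← cancel_mono n]
      rw [comp_mul, hm1, hl s] at hm2
      have := mul_left_cancel hm2
      rwa [Category.assoc]

/-- Flatness of the self fibre product of `μ` from a flat cover `p` of its source. -/
theorem flat_fst_of_cover {A B G Z : Scheme.{u}} (p : A ⟶ B) [Flat p] [Surjective p] (m : B ⟶ Z)
    (d : A ⟶ G) [Flat d] (f : G ⟶ Z) [Flat (pullback.fst f f)] (hw : p ≫ m = d ≫ f) :
    Flat (pullback.fst m m) := by
  -- `A ×_Z G ⟶ A` is flat
  have s1 := IsPullback.of_hasPullback d (pullback.fst f f)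
  have s2 := s1.flip.paste_horiz (IsPullback.of_hasPullback f f).flip
  have f1 : Flat (pullback.fst d (pullback.fst f f)) := inferInstance
  -- `A ×_Z A ⟶ A ×_Z G` is flat
  have s3 := IsPullback.of_hasPullback (pullback.snd d (pullback.fst f f) ≫ pullback.snd f f) d
  have s4 := s3.flip.paste_vert s2
  have f2 : Flat (pullback.fst (pullback.snd d (pullback.fst f f) ≫ pullback.snd f f) d) := inferInstance
  have f3 : Flat (pullback.fst (pullback.snd d (pullback.fst f f) ≫ pullback.snd f f) d ≫
    pullback.fst d (pullback.fst f f)) := inferInstance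
  have s5 : IsPullback (pullback.fst (pullback.snd d (pullback.fst f f) ≫ pullback.snd f f) d ≫
      pullback.fst d (pullback.fst f f))
      (pullback.snd (pullback.snd d (pullback.fst f f) ≫ pullback.snd f f) d) (p ≫ m) (p ≫ m) := by
    rw [hw]
    exact s4.flip
  have f4 : Flat (pullback.fst (p ≫ m) (p ≫ m)) := by
    rw [← s5.isoPullback_inv_fst]
    infer_instance
  -- descend
  let g : pullback (p ≫ m) (p ≫ m) ⟶ pullback m m :=
    pullback.map _ _ _ _ p p (𝟙 _) (Category.comp_id _) (Category.comp_id _)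
  have g1 : Flat g := MorphismProperty.pullbackMap (P := @Flat) ‹_› ‹_› rfl rfl
  have g2 : Surjective g := MorphismProperty.pullbackMap (P := @Surjective) ‹_› ‹_› rfl rfl
  have g3 : g ≫ pullback.fst m m = pullback.fst (p ≫ m) (p ≫ m) ≫ p := pullback.lift_fst _ _ _
  have g4 : Flat (g ≫ pullback.fst m m) := by rw [g3]; infer_instance
  exact Groth.Agent.Flat2F.FlatComp.flat_of_flat_comp_of_flat_surjective g _

variable {k : Type u} [Field k] {G N Z : Over (Spec (CommRingCat.of k))} [GrpObj G] [GrpObj N]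

/-- **(P3a)** The quotient of `G` by `N` from `f : G ⟶ Z`. -/
theorem exists_quot [QuasiCompact G.hom] [IsSeparated Z.hom] [LocallyOfFiniteType Z.hom]
    [QuasiCompact Z.hom] (n : N ⟶ G) [IsMonHom n] [Mono n]
    (hN : AlgGrp.IsNormalHom n) (f : G ⟶ Z) (hf : KerRel n f) (U : Z.left.Opens)
    [Flat (f.left ∣_ U)] [Surjective (f.left ∣_ U)]
    (hU : ∀ x : G.left, IsMaxPt x → f.left x ∈ U) :
    ∃ (Q : Over (Spec (CommRingCat.of k))) (_ : GrpObj Q) (q : G ⟶ Q) (i : Q ⟶ Z), IsMonHom q ∧
      Surjective q.left ∧ Flat q.left ∧ QuasiCompact q.left ∧ LocallyOfFiniteType Q.hom ∧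
      QuasiCompact Q.hom ∧ IsSeparated Q.hom ∧ AlgGrp.IsKernel n q ∧ Mono i ∧ q ≫ i = f := by
  -- finiteness
  have hZn : IsLocallyNoetherian Z.left := LocallyOfFiniteType.isLocallyNoetherian Z.hom
  have hqf : QuasiCompact (f.left ≫ Z.hom) := by rw [Over.w]; infer_instance
  have hqf' : QuasiCompact f.left := QuasiCompact.of_comp f.left Z.hom
  let V : G.left.Opens := f.left ⁻¹ᵁ U
  let Vo : Over (Spec (CommRingCat.of k)) := Over.mk (V.ι ≫ G.hom)
  let Uo : Over (Spec (CommRingCat.of k)) := Over.mk (U.ι ≫ Z.hom)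
  let jV : Vo ⟶ G := Over.homMk V.ι rfl
  let jU : Uo ⟶ Z := Over.homMk U.ι rfl
  have hres : (f.left ∣_ U) ≫ U.ι = V.ι ≫ f.left := morphismRestrict_ι f.left U
  let fU : Vo ⟶ Uo := Over.homMk (f.left ∣_ U) (by
    change (f.left ∣_ U) ≫ U.ι ≫ Z.hom = V.ι ≫ G.hom
    rw [← Category.assoc, hres, Category.assoc, Over.w])
  have hfU : fU ≫ jU = jV ≫ f := by ext1; exact hres
  have iV : IsOpenImmersion jV.left := inferInstanceAs (IsOpenImmersion V.ι)
  have flU : Flat fU.left := inferInstanceAs (Flat (f.left ∣_ U))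
  have suU : Surjective fU.left := inferInstanceAs (Surjective (f.left ∣_ U))
  have qcU : QuasiCompact fU.left := inferInstanceAs (QuasiCompact (f.left ∣_ U))
  have mjU : Mono jU := by
    have : Mono jU.left := inferInstanceAs (Mono U.ι)
    exact Over.mono_of_mono_left jU
  -- `δ : V × V ⟶ G`
  have dfl : Flat (delta jV).left := flat_delta jV
  have dsu : Surjective (delta jV).left := by
    refine surjective_delta jV fun x hx => ?_
    have : x ∈ Set.range V.ι := by rw [Scheme.Opens.range_ι]; exact hU x hx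
    exact this
  have qU : QuasiCompact Uo.hom := inferInstanceAs (QuasiCompact (U.ι ≫ Z.hom))
  have qV : QuasiCompact Vo.hom := by
    rw [← Over.w fU]; infer_instance
  have lU : LocallyOfFiniteType Uo.hom := inferInstanceAs (LocallyOfFiniteType (U.ι ≫ Z.hom))
  have hGs : IsSeparated G.hom := Groth.Agent.Localalg.GrpSchComp2.isSeparated_hom G
  have hVV : (Vo ⊗ Vo).hom = pullback.fst Vo.hom Vo.hom ≫ Vo.hom := rfl
  have hUU : (Uo ⊗ Uo).hom = pullback.fst Uo.hom Uo.hom ≫ Uo.hom := rfl
  have qVV : QuasiCompact (Vo ⊗ Vo).hom := by rw [hVV]; infer_instance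
  have qUU : QuasiCompact (Uo ⊗ Uo).hom := by rw [hUU]; infer_instance
  have lUU : LocallyOfFiniteType (Uo ⊗ Uo).hom := by rw [hUU]; infer_instance
  have dqc : QuasiCompact (delta jV).left := by
    have : QuasiCompact ((delta jV).left ≫ G.hom) := by rw [Over.w]; exact qVV
    exact QuasiCompact.of_comp (delta jV).left G.hom
  -- `μ : U × U ⟶ Z`
  have f2 : Flat (fU ⊗ₘ fU).left := tensorHom_left_of (@Flat) fU fU flU flU
  have s2 : Surjective (fU ⊗ₘ fU).left := tensorHom_left_of (@Surjective) fU fU suU suU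
  have c2 : QuasiCompact (fU ⊗ₘ fU).left := tensorHom_left_of (@QuasiCompact) fU fU qcU qcU
  have hdelta : ∀ {T : Over (Spec (CommRingCat.of k))} (x : T ⟶ Vo ⊗ Vo),
      x ≫ delta jV = ((x ≫ fst Vo Vo) ≫ jV)⁻¹ * ((x ≫ snd Vo Vo) ≫ jV) := by
    intro T x
    simp only [delta, comp_mul, comp_inv, Category.assoc]
  obtain ⟨m, hm⟩ := exists_desc (fU ⊗ₘ fU) (delta jV ≫ f) (by
    intro T x y hxy
    have e1 : (x ≫ fst Vo Vo) ≫ jV ≫ f = (y ≫ fst Vo Vo) ≫ jV ≫ f := by
      have := congrArg (fun z => z ≫ fst Uo Uo ≫ jU) hxy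
      simpa [hfU] using this
    have e2 : (x ≫ snd Vo Vo) ≫ jV ≫ f = (y ≫ snd Vo Vo) ≫ jV ≫ f := by
      have := congrArg (fun z => z ≫ snd Uo Uo ≫ jU) hxy
      simpa [hfU] using this
    rw [← Category.assoc, ← Category.assoc] at e1 e2
    rw [← Category.assoc, ← Category.assoc, hdelta, hdelta]
    obtain ⟨c₁, h₁⟩ := hf.exists_eq e1
    obtain ⟨c₂, h₂⟩ := hf.exists_eq e2
    generalize (x ≫ fst Vo Vo) ≫ jV = x₁ at h₁ ⊢
    generalize (x ≫ snd Vo Vo) ≫ jV = x₂ at h₂ ⊢
    obtain ⟨c₃, h₃⟩ := hN T (x₁⁻¹ * x₂)⁻¹ c₁⁻¹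
    have e3 : (x₁ * (c₁ ≫ n))⁻¹ * (x₂ * (c₂ ≫ n)) = x₁⁻¹ * x₂ * ((c₃ * c₂) ≫ n) := by
      rw [mul_comp, ← h₃, inv_comp]
      group
    rw [h₁, h₂, e3, hf.mul_comp])
  -- `μ` is finitely presented with flat self fibre product
  have lm : LocallyOfFinitePresentation m.left := by
    have : LocallyOfFinitePresentation (m.left ≫ Z.hom) := by rw [Over.w]; infer_instance
    exact Groth.Agent.Flat2D.LfpComp.lfp_of_comp m.left Z.hom
  have hfl : Flat (pullback.fst f.left f.left) := by
    have h := (isPullback_of_kerRel n f hf).map (Over.forget _)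
    have h1 : IsPullback (fst G N).left (snd G N).left G.hom N.hom := IsPullback.of_hasPullback G.hom N.hom
    have h2 : Flat (fst G N).left := MorphismProperty.of_isPullback (P := @Flat) h1.flip inferInstance
    have h3 : pullback.fst f.left f.left = h.isoPullback.inv ≫ (fst G N).left :=
      h.isoPullback_inv_fst.symm
    rw [h3]
    exact (MorphismProperty.cancel_left_of_respectsIso (P := @Flat) _ _).2 h2
  have hml : Flat (pullback.fst m.left m.left) := by
    refine flat_fst_of_cover (fU ⊗ₘ fU).left m.left (delta jV).left f.left ?_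
    rw [← Over.comp_left, ← Over.comp_left, hm]
  obtain ⟨Y, g, h, hg1, hg2, hg3, hh, hgh⟩ := Groth.Agent.GrpQ.H776.Exist.hasFact m.left
  let Q : Over (Spec (CommRingCat.of k)) := Over.mk (h ≫ Z.hom)
  let i : Q ⟶ Z := Over.homMk h rfl
  let g' : Uo ⊗ Uo ⟶ Q := Over.homMk g (by
    change g ≫ h ≫ Z.hom = _
    rw [← Category.assoc, hgh, Over.w])
  have hgi : g' ≫ i = m := by ext1; exact hgh
  have hi : Mono i := by
    have : Mono i.left := hh
    exact Over.mono_of_mono_left i
  obtain ⟨q, hq⟩ := exists_desc (delta jV) ((fU ⊗ₘ fU) ≫ g') (by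
    intro T x y hxy
    rw [← cancel_mono i]
    simp only [Category.assoc]
    rw [hgi, hm, ← Category.assoc, hxy, Category.assoc])
  have hqi : q ≫ i = f := by
    have := epi_of_flat_surjective (delta jV)
    rw [← cancel_epi (delta jV), ← Category.assoc, hq, Category.assoc, hgi, hm]
  have gfl : Flat g'.left := hg2
  have gsu : Surjective g'.left := hg1
  have glf : LocallyOfFinitePresentation g'.left := hg3
  have hq' : (delta jV).left ≫ q.left = (fU ⊗ₘ fU).left ≫ g'.left := by
    rw [← Over.comp_left, hq, Over.comp_left]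
  have qfl : Flat q.left := by
    have : Flat ((delta jV).left ≫ q.left) := by rw [hq']; infer_instance
    exact Groth.Agent.Flat2F.FlatComp.flat_of_flat_comp_of_flat_surjective (delta jV).left q.left
  have qsu : Surjective q.left := by
    have : Surjective ((delta jV).left ≫ q.left) := by rw [hq']; infer_instance
    exact Surjective.of_comp (delta jV).left q.left
  -- properties of `Q`
  have Qse : IsSeparated Q.hom := by
    have : Mono i.left := hh
    exact inferInstanceAs (IsSeparated (i.left ≫ Z.hom))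
  have Qlf : LocallyOfFiniteType Q.hom := by
    have : LocallyOfFinitePresentation (g'.left ≫ Q.hom) := by rw [Over.w]; infer_instance
    have := Groth.Agent.S0114.result g'.left Q.hom
    infer_instance
  have Qqc : QuasiCompact Q.hom := by
    have h1 : CompactSpace (Uo ⊗ Uo).left := (quasiCompact_iff_compactSpace (f := (Uo ⊗ Uo).hom)).1 qUU
    have h2 : CompactSpace Q.left := by
      rw [← isCompact_univ_iff, ← g'.left.surjective.range_eq]
      exact isCompact_range g'.left.continuous
    exact (quasiCompact_iff_compactSpace (f := Q.hom)).2 h2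
  have qqc : QuasiCompact q.left := by
    have : QuasiCompact (q.left ≫ Q.hom) := by rw [Over.w]; infer_instance
    exact QuasiCompact.of_comp q.left Q.hom
  have hker : KerRel n q := KerRel.of_comp_mono i (by rw [hqi]; exact hf)
  obtain ⟨gQ, hmon⟩ := exists_grpObj n q hker hN
  exact ⟨Q, gQ, q, i, hmon, qsu, qfl, qqc, Qlf, Qqc, Qse, isKernel n q hker, hi, hqi⟩

end Groth.Agent.Sga3.H8.Quot3a
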